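import Groth.Agent.Lib.Helper8.Val.SatFG

/-!
# Semi-valuation rings (helper8)

`A` a local ring with residue field `K`, `R` a valuation subring of `K`, `O ⊆ A` the preimage of `R`.
An `O`-algebra `C` of finite type with `C → A ⊗_O C` injective and `A ⊗_O C` flat and finitely
presented over `A` is flat and finitely presented over `O`.

Flatness: equational criterion over `A` + a generating family of an ideal of `O` of minimal
cardinality has only relations with coefficients in the maximal ideal.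
Finite presentation: `O/𝔪`-side by `poly_sat_fg_val`, `A`-side by localization, glued using
`I ∩ 𝔪 P = 𝔪 I` (flatness).
-/

set_option autoImplicit false
universe u

open IsLocalRing TensorProduct

namespace Groth.Agent.H8.SemiVal

section Tensor

variable {A : Type u} [CommRing A] (O : Subring A) (C : Type u) [CommRing C] [Algebra O C]

lemma smul_one_tmul (t : O) (c : C) :
    (t : A) • ((1 : A) ⊗ₜ[O] c) = (1 : A) ⊗ₜ[O] (t • c) := by
  rw [TensorProduct.smul_tmul', smul_eq_mul, mul_one, ← TensorProduct.smul_tmul, Subring.smul_def,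
    smul_eq_mul, mul_one]

end Tensor

section General

lemma exists_finset_map_eq {R S F : Type*} [CommRing R] [CommRing S] [FunLike F R S]
    [RingHomClass F R S] (g : F) (I : Ideal R) (h : (I.map g).FG) :
    ∃ F' : Finset R, (↑F' : Set R) ⊆ I ∧ (Ideal.span (F' : Set R)).map g = I.map g := by
  classical
  have h' : (Submodule.span S (g '' (I : Set R))).FG := h
  obtain ⟨T, hT, hspan⟩ := (Submodule.fg_span_iff_fg_span_finset_subset (R := S)
    (g '' (I : Set R))).1 h'
  obtain ⟨F', hF', rfl⟩ := Finset.subset_set_image_iff.1 hT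
  refine ⟨F', hF', ?_⟩
  rw [Ideal.map_span, ← Finset.coe_image]
  exact hspan.symm

end General

section Basic

variable {A : Type u} [CommRing A] [IsLocalRing A]

lemma isUnit_of_notMem {s : A} (hs : s ∉ maximalIdeal A) : IsUnit s := by
  by_contra hnu
  exact hs ((mem_maximalIdeal _).2 hnu)

lemma exists_mul_of_mem_max {s : A} (hs : s ∉ maximalIdeal A) {x : A}
    (hx : x ∈ maximalIdeal A) : ∃ x' ∈ maximalIdeal A, x = s * x' := by
  obtain ⟨u, hu⟩ := isUnit_of_notMem hs
  refine ⟨↑u⁻¹ * x, Ideal.mul_mem_left _ _ hx, ?_⟩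
  rw [← hu, ← mul_assoc, Units.mul_inv, one_mul]

/-- the prime ideal `𝔪 ∩ O = 𝔪` of `O` -/
abbrev mO (O : Subring A) : Ideal O := (maximalIdeal A).comap O.subtype

variable (R : ValuationSubring (ResidueField A))
  (O : Subring A) (hO : ∀ x : A, x ∈ O ↔ residue A x ∈ R)

include hO

lemma mem_of_mem_max {x : A} (hx : x ∈ maximalIdeal A) : x ∈ O := by
  rw [hO, (residue_eq_zero_iff _).2 hx]
  exact zero_mem _

lemma exists_dominant {d : ℕ} (a : Fin d → A) (i1 : Fin d) (h1 : a i1 ∉ maximalIdeal A) :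
    ∃ i0, a i0 ∉ maximalIdeal A ∧ ∀ i, ∃ b : O, a i = (b : A) * a i0 := by
  obtain ⟨i0, -, hmax⟩ := Finset.exists_max_image Finset.univ
    (fun i => R.valuation (residue A (a i))) ⟨i1, Finset.mem_univ _⟩
  have hv1 : R.valuation (residue A (a i1)) ≠ 0 :=
    (Valuation.ne_zero_iff _).2 (fun h => h1 ((residue_eq_zero_iff _).1 h))
  have hv0 : R.valuation (residue A (a i0)) ≠ 0 := by
    intro h
    have h2 := hmax i1 (Finset.mem_univ _)
    simp only [h] at h2
    exact hv1 (le_zero_iff.1 h2)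
  have h0 : a i0 ∉ maximalIdeal A := by
    intro h
    apply hv0
    rw [(residue_eq_zero_iff _).2 h, map_zero]
  refine ⟨i0, h0, fun i => ?_⟩
  obtain ⟨u, hu⟩ := isUnit_of_notMem h0
  have key : a i * ↑u⁻¹ * a i0 = a i := by
    rw [← hu, mul_assoc, Units.inv_mul, mul_one]
  have hb : a i * ↑u⁻¹ ∈ O := by
    rw [hO, ← ValuationSubring.valuation_le_one_iff]
    apply le_of_mul_le_mul_right _ (zero_lt_iff.2 hv0)
    rw [one_mul, ← map_mul, ← map_mul, key]
    exact hmax i (Finset.mem_univ _)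
  exact ⟨⟨_, hb⟩, key.symm⟩

lemma valuationRing_quot : ValuationRing (O ⧸ mO O) := by
  refine { cond' := fun a b => ?_ }
  obtain ⟨x, rfl⟩ := Ideal.Quotient.mk_surjective a
  obtain ⟨y, rfl⟩ := Ideal.Quotient.mk_surjective b
  by_cases hy : (y : A) ∈ maximalIdeal A
  · refine ⟨0, Or.inl ?_⟩
    rw [mul_zero, eq_comm, Ideal.Quotient.eq_zero_iff_mem]
    exact hy
  · obtain ⟨i0, h0, hdiv⟩ := exists_dominant R O hO ![(y : A), (x : A)] 0 (by simpa using hy)
    have hcases : i0 = 0 ∨ i0 = 1 := by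
      rcases i0 with ⟨_ | _ | n, hn⟩
      · exact Or.inl rfl
      · exact Or.inr rfl
      · omega
    rcases hcases with rfl | rfl
    · obtain ⟨b, hb⟩ := hdiv 1
      refine ⟨Ideal.Quotient.mk _ b, Or.inr ?_⟩
      rw [← map_mul]
      congr 1
      apply Subtype.ext
      simp only [Matrix.cons_val_one, Matrix.cons_val_zero, Matrix.cons_val_fin_one] at hb
      rw [Subring.coe_mul, hb, mul_comm]
    · obtain ⟨b, hb⟩ := hdiv 0
      refine ⟨Ideal.Quotient.mk _ b, Or.inl ?_⟩
      rw [← map_mul]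
      congr 1
      apply Subtype.ext
      simp only [Matrix.cons_val_one, Matrix.cons_val_zero, Matrix.cons_val_fin_one] at hb
      rw [Subring.coe_mul, hb, mul_comm]

lemma isLocalization : IsLocalization.AtPrime A (mO O) := by
  refine (isLocalization_iff _ _).2 ⟨?_, ?_, ?_⟩
  · intro y
    exact isUnit_of_notMem y.2
  · intro z
    by_cases hz : z ∈ O
    · exact ⟨(⟨z, hz⟩, 1), by simp only [Submonoid.coe_one, map_one, mul_one]; rfl⟩
    · have hzm : z ∉ maximalIdeal A := fun h => hz (mem_of_mem_max R O hO h)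
      obtain ⟨u, hu⟩ := isUnit_of_notMem hzm
      have hres : residue A (↑u⁻¹ : A) = (residue A z)⁻¹ := by
        apply eq_inv_of_mul_eq_one_left
        rw [← map_mul, ← hu, Units.inv_mul, map_one]
      have hinv : (↑u⁻¹ : A) ∈ O := by
        rw [hO, hres]
        exact (R.mem_or_inv_mem (residue A z)).resolve_left (fun h => hz ((hO z).2 h))
      have hnm : (↑u⁻¹ : A) ∉ maximalIdeal A := by
        intro h
        exact (mem_maximalIdeal _).1 h (Units.isUnit u⁻¹)
      refine ⟨(1, ⟨⟨↑u⁻¹, hinv⟩, hnm⟩), ?_⟩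
      show z * (↑u⁻¹ : A) = ((1 : O) : A)
      rw [← hu, Units.mul_inv, Subring.coe_one]
  · intro x y hxy
    exact ⟨1, by rw [Subtype.ext (show (x : A) = (y : A) from hxy)]⟩

variable (C : Type u) [CommRing C] [Algebra O C]

lemma isLocalizedModule (M : Type u) [AddCommGroup M] [Module O M] :
    IsLocalizedModule (mO O).primeCompl (TensorProduct.mk O A M 1) := by
  have := isLocalization R O hO
  exact (isLocalizedModule_iff_isBaseChange (mO O).primeCompl A _).2
    (TensorProduct.isBaseChange O M A)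

lemma exists_den (z : A ⊗[O] C) :
    ∃ s : O, (s : A) ∉ maximalIdeal A ∧ ∃ c : C, (s : A) • z = (1 : A) ⊗ₜ[O] c := by
  have := isLocalizedModule R O hO C
  obtain ⟨⟨c, s⟩, h⟩ := IsLocalizedModule.surj (mO O).primeCompl (TensorProduct.mk O A C 1) z
  refine ⟨s.1, s.2, c, ?_⟩
  have h' : (s : O) • z = (1 : A) ⊗ₜ[O] c := h
  rw [← h', ← algebraMap_smul A (s : O) z]
  rfl

lemma exists_common_den {κ : Type*} [Fintype κ] (y : κ → A ⊗[O] C) :
    ∃ s : O, (s : A) ∉ maximalIdeal A ∧ ∃ y' : κ → C, ∀ j, (s : A) • y j = (1 : A) ⊗ₜ[O] y' j := by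
  classical
  have h1 : ∀ j, ∃ s : O, (s : A) ∉ maximalIdeal A ∧ ∃ c : C, (s : A) • y j = (1 : A) ⊗ₜ[O] c :=
    fun j => exists_den R O hO C (y j)
  choose s hs c hc using h1
  refine ⟨∏ j, s j, ?_, fun j => (∏ i ∈ Finset.univ.erase j, s i) • c j, fun j => ?_⟩
  · show O.subtype (∏ j, s j) ∉ maximalIdeal A
    rw [map_prod]
    intro hmem
    obtain ⟨j, -, hj⟩ := Ideal.IsPrime.prod_mem_iff.1 hmem
    exact hs j hj
  · rw [← Finset.prod_erase_mul Finset.univ s (Finset.mem_univ j), Subring.coe_mul, mul_smul, hc j,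
      smul_one_tmul]

omit hO in
lemma eq_zero_of_smul_eq_zero (hadm : Function.Injective (TensorProduct.mk O A C 1)) {s : O}
    (hs : (s : A) ∉ maximalIdeal A) {c : C} (h : s • c = 0) : c = 0 := by
  apply hadm
  rw [map_zero, TensorProduct.mk_apply]
  obtain ⟨u, hu⟩ := isUnit_of_notMem hs
  have h1 : (s : A) • ((1 : A) ⊗ₜ[O] c) = 0 := by
    rw [smul_one_tmul, h, TensorProduct.tmul_zero]
  calc (1 : A) ⊗ₜ[O] c = (↑u⁻¹ : A) • ((s : A) • ((1 : A) ⊗ₜ[O] c)) := by
        rw [smul_smul, ← hu, Units.inv_mul, one_smul]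
    _ = 0 := by rw [h1, smul_zero]

end Basic

end Groth.Agent.H8.SemiVal
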