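import Groth.Agent.Lib.Helper8.SemiVal.Flat

/-!
# Semi-valuation rings: finite presentation (helper8)
-/

set_option autoImplicit false
universe u

open IsLocalRing TensorProduct

namespace Groth.Agent.H8.SemiVal

lemma exists_finset_map_eq' {R S : Type*} [CommSemiring R] [CommSemiring S]
    (g : R →+* S) (I : Ideal R) (h : (I.map g).FG) :
    ∃ F' : Finset R, (↑F' : Set R) ⊆ I ∧ (Ideal.span (F' : Set R)).map g = I.map g := by
  classical
  have h' : (Submodule.span S (g '' (I : Set R))).FG := h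
  obtain ⟨T, hT, hspan⟩ := (Submodule.fg_span_iff_fg_span_finset_subset (R := S)
    (g '' (I : Set R))).1 h'
  obtain ⟨F', hF', rfl⟩ := Finset.subset_set_image_iff.1 hT
  refine ⟨F', hF', ?_⟩
  rw [Ideal.map_span, ← Finset.coe_image]
  exact hspan.symm

variable {A : Type u} [CommRing A] [IsLocalRing A] (R : ValuationSubring (ResidueField A))
  (O : Subring A) (hO : ∀ x : A, x ∈ O ↔ residue A x ∈ R)
  (C : Type u) [CommRing C] [Algebra O C]

include hO

theorem fp_of_admissible [Algebra.FiniteType O C]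
    (hadm : Function.Injective (TensorProduct.mk O A C 1))
    [Module.Flat O C] [Algebra.FinitePresentation A (A ⊗[O] C)] :
    Algebra.FinitePresentation O C := by
  classical
  have hloc := isLocalization R O hO
  haveI : ValuationRing (O ⧸ mO O) := valuationRing_quot R O hO
  obtain ⟨n, f, hf⟩ := Algebra.FiniteType.iff_quotient_mvPolynomial''.mp
    (inferInstance : Algebra.FiniteType O C)
  refine Algebra.FinitePresentation.iff_quotient_mvPolynomial'.mpr
    ⟨Fin n, inferInstance, f, hf, ?_⟩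
  obtain ⟨I, hI⟩ : ∃ I : Ideal (MvPolynomial (Fin n) O), I = RingHom.ker f.toRingHom := ⟨_, rfl⟩
  rw [← hI]
  have hmemI : ∀ p, p ∈ I ↔ f p = 0 := fun p => by rw [hI]; rfl
  -- the residue side
  let φ : MvPolynomial (Fin n) O →+* MvPolynomial (Fin n) (O ⧸ mO O) :=
    MvPolynomial.map (Ideal.Quotient.mk (mO O))
  have hφ : Function.Surjective φ := MvPolynomial.map_surjective _ Ideal.Quotient.mk_surjective
  have hkerφ : RingHom.ker φ = (mO O).map (MvPolynomial.C : O →+* MvPolynomial (Fin n) O) := by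
    rw [MvPolynomial.ker_map, Ideal.mk_ker]
  have hdivP : ∀ (s : O), (s : A) ∉ maximalIdeal A →
      ∀ w ∈ (mO O).map (MvPolynomial.C : O →+* MvPolynomial (Fin n) O),
      ∃ w' ∈ (mO O).map (MvPolynomial.C : O →+* MvPolynomial (Fin n) O), w = s • w' := by
    intro s hs w hw
    have hw' : w ∈ Submodule.span (MvPolynomial (Fin n) O)
        ((MvPolynomial.C : O →+* MvPolynomial (Fin n) O) '' (mO O : Set O)) := hw
    induction hw' using Submodule.span_induction with
    | mem x hx =>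
      obtain ⟨z, hz, rfl⟩ := hx
      obtain ⟨z', hz', hzz⟩ := exists_mul_of_mem_max hs (show (z : A) ∈ maximalIdeal A from hz)
      refine ⟨MvPolynomial.C ⟨z', mem_of_mem_max R O hO hz'⟩,
        Ideal.mem_map_of_mem _ (show (⟨z', mem_of_mem_max R O hO hz'⟩ : O) ∈ mO O from hz'), ?_⟩
      rw [MvPolynomial.smul_eq_C_mul, ← map_mul]
      congr 1
      exact Subtype.ext hzz
    | zero => exact ⟨0, zero_mem _, by simp⟩
    | add x y hx hy ihx ihy =>
      obtain ⟨x', hx', rfl⟩ := ihx hx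
      obtain ⟨y', hy', rfl⟩ := ihy hy
      exact ⟨x' + y', add_mem hx' hy', (smul_add _ _ _).symm⟩
    | smul a x hx ih =>
      obtain ⟨x', hx', rfl⟩ := ih hx
      exact ⟨a * x', Ideal.mul_mem_left _ _ hx', by rw [smul_eq_mul, mul_smul_comm]⟩
  have hsat : ∀ a : O ⧸ mO O, a ≠ 0 → ∀ x : MvPolynomial (Fin n) (O ⧸ mO O),
      a • x ∈ I.map φ → x ∈ I.map φ := by
    intro a ha x hx
    obtain ⟨s, rfl⟩ := Ideal.Quotient.mk_surjective a
    obtain ⟨p, rfl⟩ := hφ x
    have hs : (s : A) ∉ maximalIdeal A := fun h => ha (Ideal.Quotient.eq_zero_iff_mem.2 h)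
    have h1 : (Ideal.Quotient.mk (mO O) s) • φ p = φ (s • p) := by
      simp only [φ, MvPolynomial.smul_eq_C_mul, map_mul, MvPolynomial.map_C]
    rw [h1, Ideal.mem_map_iff_of_surjective φ hφ] at hx
    obtain ⟨h, hhI, hh⟩ := hx
    have h2 : s • p - h ∈ (mO O).map (MvPolynomial.C : O →+* MvPolynomial (Fin n) O) := by
      rw [← hkerφ, RingHom.mem_ker, map_sub, hh, sub_self]
    obtain ⟨w', hw', hw⟩ := hdivP s hs _ h2
    have h3 : p - w' ∈ I := by
      rw [hmemI]
      apply eq_zero_of_smul_eq_zero O C hadm hs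
      rw [← map_smul, smul_sub, ← hw, sub_sub_cancel]
      exact (hmemI h).1 hhI
    rw [Ideal.mem_map_iff_of_surjective φ hφ]
    refine ⟨p - w', h3, ?_⟩
    have h4 : φ w' = 0 := by
      rw [← RingHom.mem_ker, hkerφ]
      exact hw'
    rw [map_sub, h4, sub_zero]
  have hbfg : (I.map φ).FG := Groth.Agent.H8.Val.poly_sat_fg_val (O ⧸ mO O) n _ hsat
  -- the `A` side
  let ψ : A ⊗[O] MvPolynomial (Fin n) O →ₐ[A] A ⊗[O] C :=
    Algebra.TensorProduct.map (AlgHom.id A A) f
  have hψ : Function.Surjective ψ := Algebra.FiniteType.baseChangeAux_surj A hf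
  have hkerψ : I.map (Algebra.TensorProduct.includeRight :
      MvPolynomial (Fin n) O →ₐ[O] A ⊗[O] MvPolynomial (Fin n) O) = RingHom.ker ψ := by
    rw [hI]
    exact (Algebra.TensorProduct.lTensor_ker f hf).symm
  have hafg : (I.map (Algebra.TensorProduct.includeRight :
      MvPolynomial (Fin n) O →ₐ[O] A ⊗[O] MvPolynomial (Fin n) O)).FG := by
    rw [hkerψ]
    exact Algebra.FinitePresentation.ker_fG_of_surjective ψ hψ
  obtain ⟨F₁, hF₁I, hF₁⟩ := exists_finset_map_eq _ I hafg
  obtain ⟨F₂, hF₂I, hF₂⟩ := exists_finset_map_eq' φ I hbfg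
  have hI₁ : Ideal.span (F₁ : Set (MvPolynomial (Fin n) O)) ≤ I := Ideal.span_le.2 hF₁I
  have hI₂ : Ideal.span (F₂ : Set (MvPolynomial (Fin n) O)) ≤ I := Ideal.span_le.2 hF₂I
  -- elements of `I` are in `span F₁` up to a denominator
  have hA : ∀ h ∈ I, ∃ s : O, (s : A) ∉ maximalIdeal A ∧
      s • h ∈ Ideal.span (F₁ : Set (MvPolynomial (Fin n) O)) := by
    intro h hh
    obtain ⟨I₁, hI₁def⟩ : ∃ I₁ : Ideal (MvPolynomial (Fin n) O),
      I₁ = Ideal.span (F₁ : Set (MvPolynomial (Fin n) O)) := ⟨_, rfl⟩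
    rw [← hI₁def] at hF₁ ⊢
    let ψ₁ : A ⊗[O] MvPolynomial (Fin n) O →ₐ[A] A ⊗[O] (MvPolynomial (Fin n) O ⧸ I₁) :=
      Algebra.TensorProduct.map (AlgHom.id A A) (Ideal.Quotient.mkₐ O I₁)
    have hkψ₁ : RingHom.ker ψ₁ = I₁.map (Algebra.TensorProduct.includeRight :
        MvPolynomial (Fin n) O →ₐ[O] A ⊗[O] MvPolynomial (Fin n) O) := by
      have h0 := Algebra.TensorProduct.lTensor_ker (A := A) (Ideal.Quotient.mkₐ O I₁)
        (Ideal.Quotient.mkₐ_surjective O I₁)
      have hk : RingHom.ker (Ideal.Quotient.mkₐ O I₁) = I₁ := by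
        ext x
        rw [RingHom.mem_ker, Ideal.Quotient.mkₐ_eq_mk, Ideal.Quotient.eq_zero_iff_mem]
      rw [hk] at h0
      exact h0
    have h1 : (1 : A) ⊗ₜ[O] h ∈ RingHom.ker ψ₁ := by
      rw [hkψ₁, hF₁]
      exact Ideal.mem_map_of_mem _ hh
    have h2 : TensorProduct.mk O A (MvPolynomial (Fin n) O ⧸ I₁) 1 (Ideal.Quotient.mk I₁ h) =
        TensorProduct.mk O A (MvPolynomial (Fin n) O ⧸ I₁) 1 0 := by
      rw [map_zero]
      have h0 := (RingHom.mem_ker).1 h1
      simpa [ψ₁] using h0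
    have hlm := isLocalizedModule R O hO (MvPolynomial (Fin n) O ⧸ I₁)
    obtain ⟨c, hc⟩ := IsLocalizedModule.exists_of_eq (S := (mO O).primeCompl) h2
    refine ⟨c.1, c.2, ?_⟩
    rw [smul_zero] at hc
    have h3 : (Ideal.Quotient.mkₐ O I₁) ((c : O) • h) = 0 := by
      rw [map_smul]
      exact hc
    rw [Ideal.Quotient.mkₐ_eq_mk, Ideal.Quotient.eq_zero_iff_mem] at h3
    exact h3
  have hle : I ≤ Ideal.span (F₁ : Set (MvPolynomial (Fin n) O)) ⊔
      Ideal.span (F₂ : Set (MvPolynomial (Fin n) O)) := by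
    intro h hh
    have h1 : φ h ∈ (Ideal.span (F₂ : Set (MvPolynomial (Fin n) O))).map φ := by
      rw [hF₂]
      exact Ideal.mem_map_of_mem φ hh
    rw [Ideal.mem_map_iff_of_surjective φ hφ] at h1
    obtain ⟨h₂, hh₂, hφh⟩ := h1
    have hw : h - h₂ ∈ (mO O).map (MvPolynomial.C : O →+* MvPolynomial (Fin n) O) := by
      rw [← hkerφ, RingHom.mem_ker, map_sub, hφh, sub_self]
    have hwI : h - h₂ ∈ I := I.sub_mem hh (hI₂ hh₂)
    suffices hsuff : h - h₂ ∈ Ideal.span (F₁ : Set (MvPolynomial (Fin n) O)) by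
      have h5 : h = (h - h₂) + h₂ := by ring
      rw [h5]
      exact Ideal.add_mem _ (Ideal.mem_sup_left hsuff) (Ideal.mem_sup_right hh₂)
    generalize h - h₂ = w at hw hwI
    have hcoef : ∀ m, w.coeff m ∈ mO O := MvPolynomial.mem_map_C_iff.1 hw
    have hw0 : f w = 0 := (hmemI w).1 hwI
    have hfirst : ∑ m : w.support, (w.coeff m.1) • (MvPolynomial.monomial m.1 (1 : O)) = w := by
      conv_rhs => rw [← MvPolynomial.support_sum_monomial_coeff w]
      rw [Finset.sum_coe_sort w.support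
        (fun m => (w.coeff m) • (MvPolynomial.monomial m (1 : O)))]
      refine Finset.sum_congr rfl fun m _ => ?_
      rw [MvPolynomial.smul_monomial, smul_eq_mul, mul_one]
    have hsum : ∑ m : w.support, (w.coeff m.1) • f (MvPolynomial.monomial m.1 (1 : O)) = 0 := by
      have h5 := congrArg f hfirst
      rw [map_sum, hw0] at h5
      rw [← h5]
      exact Finset.sum_congr rfl fun m _ => (map_smul f _ _).symm
    obtain ⟨k, a, y, hy, ha⟩ := Module.Flat.isTrivialRelation_of_sum_smul_eq_zero (R := O) (M := C)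
      (f := fun m : w.support => w.coeff m.1)
      (x := fun m : w.support => f (MvPolynomial.monomial m.1 (1 : O))) hsum
    choose uu huu using fun j => hf (y j)
    have hhm : ∀ m : w.support,
        MvPolynomial.monomial m.1 (1 : O) - ∑ j, a m j • uu j ∈ I := by
      intro m
      have hym : f (MvPolynomial.monomial m.1 (1 : O)) = ∑ j, a m j • y j := hy m
      rw [hmemI, map_sub, map_sum, hym, sub_eq_zero]
      refine Finset.sum_congr rfl fun j _ => ?_
      rw [map_smul, huu]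
    have hsecond : ∑ m : w.support, (w.coeff m.1) • ∑ j, a m j • uu j = 0 := by
      simp_rw [Finset.smul_sum, smul_smul]
      rw [Finset.sum_comm]
      refine Finset.sum_eq_zero fun j _ => ?_
      rw [← Finset.sum_smul, ha j, zero_smul]
    have hweq : w = ∑ m : w.support, (w.coeff m.1) •
        (MvPolynomial.monomial m.1 (1 : O) - ∑ j, a m j • uu j) := by
      simp_rw [smul_sub]
      rw [Finset.sum_sub_distrib, hfirst, hsecond, sub_zero]
    rw [hweq]
    refine Ideal.sum_mem _ fun m _ => ?_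
    obtain ⟨s, hs, hsm⟩ := hA _ (hhm m)
    obtain ⟨x', hx', hxeq⟩ := exists_mul_of_mem_max hs
      (show ((w.coeff m.1 : O) : A) ∈ maximalIdeal A from hcoef m.1)
    have hxeq' : w.coeff m.1 = (⟨x', mem_of_mem_max R O hO hx'⟩ : O) * s := by
      apply Subtype.ext
      rw [Subring.coe_mul, mul_comm]
      exact hxeq
    rw [hxeq', mul_smul, MvPolynomial.smul_eq_C_mul]
    exact Ideal.mul_mem_left _ _ hsm
  have hIeq : I = Ideal.span (F₁ : Set (MvPolynomial (Fin n) O)) ⊔
      Ideal.span (F₂ : Set (MvPolynomial (Fin n) O)) := le_antisymm hle (sup_le hI₁ hI₂)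
  rw [hIeq]
  exact Submodule.FG.sup ⟨F₁, rfl⟩ ⟨F₂, rfl⟩

theorem main_aux [Algebra.FiniteType O C]
    (hadm : Function.Injective (TensorProduct.mk O A C 1))
    (hflat : Module.Flat A (A ⊗[O] C)) (hfp : Algebra.FinitePresentation A (A ⊗[O] C)) :
    Module.Flat O C ∧ Algebra.FinitePresentation O C := by
  have := flat_of_admissible R O hO C hadm
  exact ⟨inferInstance, fp_of_admissible R O hO C hadm⟩

end Groth.Agent.H8.SemiVal

namespace Groth.Agent.H8.SemiVal

theorem main
    (A : Type u) [CommRing A] [IsLocalRing A] (R : ValuationSubring (IsLocalRing.ResidueField A))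
    (O : Subring A) (hO : O = R.toSubring.comap (IsLocalRing.residue A))
    (C : Type u) [CommRing C] [Algebra ↥O C] [Algebra.FiniteType ↥O C]
    (hadm : Function.Injective (Algebra.TensorProduct.includeRight : C →ₐ[↥O] A ⊗[↥O] C))
    (hflat : Module.Flat A (A ⊗[↥O] C)) (hfp : Algebra.FinitePresentation A (A ⊗[↥O] C)) :
    Module.Flat ↥O C ∧ Algebra.FinitePresentation ↥O C := by
  have hO' : ∀ x : A, x ∈ O ↔ IsLocalRing.residue A x ∈ R := fun x => by rw [hO]; rfl
  have hadm' : Function.Injective (TensorProduct.mk O A C 1) := fun x y h => hadm h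
  exact main_aux R O hO' C hadm' hflat hfp

end Groth.Agent.H8.SemiVal
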