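import Groth.Agent.Lib.Helper8.SemiVal.Basic

/-!
# Semi-valuation rings: flatness (helper8)
-/

set_option autoImplicit false
universe u

open IsLocalRing TensorProduct

namespace Groth.Agent.H8.SemiVal

variable {A : Type u} [CommRing A] [IsLocalRing A] (R : ValuationSubring (ResidueField A))
  (O : Subring A) (hO : ∀ x : A, x ∈ O ↔ residue A x ∈ R)
  (C : Type u) [CommRing C] [Algebra O C]

include hO

theorem flat_of_admissible (hadm : Function.Injective (TensorProduct.mk O A C 1))
    [Module.Flat A (A ⊗[O] C)] : Module.Flat O C := by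
  classical
  rw [Module.Flat.iff_rTensor_injective]
  intro J hJ
  have hex : ∃ d, ∃ g : Fin d → O, Ideal.span (Set.range g) = J := by
    obtain ⟨n, s, hs⟩ := Submodule.fg_iff_exists_fin_generating_family.1 hJ
    exact ⟨n, s, hs⟩
  obtain ⟨d, ⟨g, hg⟩, hmin⟩ : ∃ d, (∃ g : Fin d → O, Ideal.span (Set.range g) = J) ∧
      ∀ d' < d, ¬ ∃ g' : Fin d' → O, Ideal.span (Set.range g') = J :=
    ⟨Nat.find hex, Nat.find_spec hex, fun d' hd' => Nat.find_min hex hd'⟩
  have hgJ : ∀ i, g i ∈ J := fun i => hg ▸ Ideal.subset_span ⟨i, rfl⟩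
  let g' : Fin d → J := fun i => ⟨g i, hgJ i⟩
  have key : ∀ x : J ⊗[O] C, ∃ c : Fin d → C, x = ∑ i, g' i ⊗ₜ[O] c i := by
    intro x
    induction x using TensorProduct.induction_on with
    | zero => exact ⟨0, by simp⟩
    | tmul j m =>
      obtain ⟨j, hj⟩ := j
      have hj' : j ∈ Submodule.span O (Set.range g) := by
        have : j ∈ Ideal.span (Set.range g) := hg ▸ hj
        exact this
      obtain ⟨o, ho⟩ := (Submodule.mem_span_range_iff_exists_fun O).1 hj'
      refine ⟨fun i => o i • m, ?_⟩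
      have h1 : (⟨j, hj⟩ : J) = ∑ i, o i • g' i := by
        apply Subtype.ext
        rw [Submodule.coe_sum]
        simp only [Submodule.coe_smul, g']
        exact ho.symm
      rw [h1, TensorProduct.sum_tmul]
      refine Finset.sum_congr rfl fun i _ => ?_
      rw [TensorProduct.smul_tmul]
    | add x y hx hy =>
      obtain ⟨c1, rfl⟩ := hx
      obtain ⟨c2, rfl⟩ := hy
      refine ⟨c1 + c2, ?_⟩
      simp only [Pi.add_apply, TensorProduct.tmul_add, Finset.sum_add_distrib]
  rw [injective_iff_map_eq_zero]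
  intro x hx
  obtain ⟨c, rfl⟩ := key x
  -- the relation in `C`
  have h1 : ∑ i, g i • c i = 0 := by
    have h := congrArg (TensorProduct.lid O C) hx
    simpa only [map_sum, LinearMap.rTensor_tmul, Submodule.subtype_apply, TensorProduct.lid_tmul,
      map_zero, g'] using h
  have h2 : ∑ i, (g i : A) • ((1 : A) ⊗ₜ[O] c i) = 0 := by
    simp_rw [smul_one_tmul]
    rw [← TensorProduct.tmul_sum, h1, TensorProduct.tmul_zero]
  obtain ⟨k, a, y, hy, ha⟩ := Module.Flat.isTrivialRelation_of_sum_smul_eq_zero h2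
  -- all coefficients of the trivialising relations lie in the maximal ideal
  have ham : ∀ i j, a i j ∈ maximalIdeal A := by
    by_contra hcon
    push_neg at hcon
    obtain ⟨i1, j, h1j⟩ := hcon
    obtain ⟨i0, h0, hdiv⟩ := exists_dominant R O hO (fun i => a i j) i1 h1j
    choose b hb using hdiv
    obtain ⟨u, hu⟩ := isUnit_of_notMem h0
    have hb0 : b i0 = 1 := by
      apply Subtype.ext
      have h3 := hb i0
      have h' : ((b i0 : A) - 1) * a i0 j = 0 := by
        rw [sub_mul, one_mul, ← h3, sub_self]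
      rw [← hu] at h'
      have h4 := (Units.mul_left_eq_zero u).1 h'
      rw [Subring.coe_one]
      exact sub_eq_zero.1 h4
    have hsum : ∑ i, b i * g i = 0 := by
      have h3 : (∑ i, (g i : A) * (b i : A)) * a i0 j = 0 := by
        rw [Finset.sum_mul, ← ha j]
        refine Finset.sum_congr rfl fun i _ => ?_
        rw [mul_assoc, ← hb i]
      rw [← hu] at h3
      have h4 := (Units.mul_left_eq_zero u).1 h3
      apply O.subtype_injective
      rw [map_sum, map_zero, ← h4]
      refine Finset.sum_congr rfl fun i _ => ?_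
      rw [map_mul, mul_comm]
      rfl
    obtain ⟨d', rfl⟩ : ∃ d', d = d' + 1 := ⟨d - 1, by have := i0.pos; omega⟩
    refine hmin d' (Nat.lt_succ_self d') ⟨fun j' => g (i0.succAbove j'), ?_⟩
    apply le_antisymm
    · rw [Ideal.span_le]
      rintro _ ⟨j', rfl⟩
      exact hgJ _
    · rw [← hg, Ideal.span_le]
      rintro _ ⟨i, rfl⟩
      by_cases hi : i = i0
      · rw [hi]
        have h5 := hsum
        rw [Fin.sum_univ_succAbove _ i0, hb0, one_mul] at h5
        have h6 : g i0 = - ∑ j', b (i0.succAbove j') * g (i0.succAbove j') :=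
          eq_neg_of_add_eq_zero_left h5
        rw [h6]
        refine neg_mem (Ideal.sum_mem _ fun j' _ => Ideal.mul_mem_left _ _
          (Ideal.subset_span ⟨j', rfl⟩))
      · obtain ⟨j', rfl⟩ := Fin.exists_succAbove_eq hi
        exact Ideal.subset_span ⟨j', rfl⟩
  -- common denominators
  obtain ⟨s, hs, y', hy'⟩ := exists_common_den R O hO C y
  obtain ⟨u, hu⟩ := isUnit_of_notMem hs
  have ha' : ∀ i j, a i j * ↑u⁻¹ ∈ O := fun i j =>
    mem_of_mem_max R O hO (Ideal.mul_mem_right _ _ (ham i j))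
  let a' : Fin d → Fin k → O := fun i j => ⟨a i j * ↑u⁻¹, ha' i j⟩
  have hc : ∀ i, c i = ∑ j, a' i j • y' j := by
    intro i
    apply hadm
    have hyi : (1 : A) ⊗ₜ[O] c i = ∑ j, a i j • y j := hy i
    rw [TensorProduct.mk_apply, TensorProduct.mk_apply, hyi, TensorProduct.tmul_sum]
    refine Finset.sum_congr rfl fun j _ => ?_
    rw [← smul_one_tmul, ← hy' j, smul_smul]
    congr 1
    show a i j = a i j * ↑u⁻¹ * (s : A)
    rw [← hu, mul_assoc, Units.inv_mul, mul_one]
  have hrel : ∀ j, ∑ i, a' i j • g' i = 0 := by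
    intro j
    apply Subtype.ext
    rw [Submodule.coe_sum]
    simp only [Submodule.coe_smul, g', smul_eq_mul, ZeroMemClass.coe_zero]
    apply O.subtype_injective
    rw [map_sum, map_zero]
    have h3 : ∑ i, (g i : A) * a i j * ↑u⁻¹ = 0 := by
      rw [← Finset.sum_mul, ha j, zero_mul]
    rw [← h3]
    refine Finset.sum_congr rfl fun i _ => ?_
    rw [map_mul]
    show a i j * ↑u⁻¹ * (g i : A) = (g i : A) * a i j * ↑u⁻¹
    ring
  calc ∑ i, g' i ⊗ₜ[O] c i = ∑ i, ∑ j, (a' i j • g' i) ⊗ₜ[O] y' j := by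
        refine Finset.sum_congr rfl fun i _ => ?_
        rw [hc i, TensorProduct.tmul_sum]
        refine Finset.sum_congr rfl fun j _ => ?_
        rw [TensorProduct.smul_tmul]
    _ = ∑ j, (∑ i, a' i j • g' i) ⊗ₜ[O] y' j := by
        rw [Finset.sum_comm]
        refine Finset.sum_congr rfl fun j _ => ?_
        rw [TensorProduct.sum_tmul]
    _ = 0 := by
        refine Finset.sum_eq_zero fun j _ => ?_
        rw [hrel j, TensorProduct.zero_tmul]

end Groth.Agent.H8.SemiVal
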